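import Mathlib

/-!
# Formal points of algebras unramified away from `V(J)` are algebraic (helper15)

Definitions for the S8826 squad: `UnramAt f t` says that `t^e` times the identity matrix is a left
multiple of the Jacobian matrix of the system `f`, modulo the ideal `(f)`.
-/

set_option autoImplicit false
universe u

open MvPolynomial

namespace Groth.Agent.H15.FPA

/-- `t^e · Id_n = g · Jac(f)` modulo `(f)`, for some `e` and some `n × m` matrix `g` of polynomials:
the algebra `R[x]/(f)` is unramified over `R` away from `V(t)`. -/
def UnramAt {R : Type u} [CommRing R] {n m : ℕ} (f : Fin m → MvPolynomial (Fin n) R) (t : R) :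
    Prop :=
  ∃ (e : ℕ) (g : Fin n → Fin m → MvPolynomial (Fin n) R), ∀ p k : Fin n,
    (∑ j, g p j * pderiv k (f j)) - C (t ^ e) * (if p = k then 1 else 0) ∈
      Ideal.span (Set.range f)

end Groth.Agent.H15.FPA
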