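import Mathlib
import Groth.Agent.H15.FPA.Defs

/-!
# The "idempotent" system `x_k (T_i - x_i) = 0` (helper15, S9298 squad)
-/

set_option autoImplicit false
universe u

open MvPolynomial

namespace Groth.Agent.H15.FPA

/-- The system `X_k * (T_i - X_i)`, indexed by pairs `(i, k)` encoded in `Fin (r * r)`. -/
noncomputable def idemSys {A : Type u} [CommRing A] {r : ℕ} (T : Fin r → A) :
    Fin (r * r) → MvPolynomial (Fin r) A :=
  fun q => X (finProdFinEquiv.symm q).2 * (C (T (finProdFinEquiv.symm q).1) - X (finProdFinEquiv.symm q).1)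

theorem idemSys_apply {A : Type u} [CommRing A] {r : ℕ} (T : Fin r → A) (i k : Fin r) :
    idemSys T (finProdFinEquiv (i, k)) = X k * (C (T i) - X i) := by
  simp [idemSys]

end Groth.Agent.H15.FPA
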