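import Mathlib
import Groth.Agent.H14.JacEtale
import Groth.Agent.H3.HPair5

/-!
# Multi-variable Hensel lemma for Henselian pairs (helper15)
-/

set_option autoImplicit false
universe u

open MvPolynomial

namespace Groth.Agent.H15.FPA

/-- (MVH) multi-variable Hensel for a Henselian pair. -/
theorem mvHensel {R : Type u} [CommRing R] (J : Ideal R) [HenselianRing R J] {n : ℕ}
    (Φ : Fin n → MvPolynomial (Fin n) R) (w₀ : Fin n → R)
    (h₀ : ∀ p, eval w₀ (Φ p) ∈ J)
    (hJ : IsUnit (Ideal.Quotient.mk J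
      (Matrix.of (fun p k => eval w₀ (pderiv k (Φ p)))).det)) :
    ∃ w : Fin n → R, (∀ p, eval w (Φ p) = 0) ∧ ∀ k, w k - w₀ k ∈ J := by
  have hev : ∀ p : MvPolynomial (Fin n) R,
      MvPolynomial.aeval (fun j => Ideal.Quotient.mk J (w₀ j)) p =
        Ideal.Quotient.mk J (MvPolynomial.eval w₀ p) := by
    intro p
    induction p using MvPolynomial.induction_on with
    | C r => simp
    | add p q hp hq => simp [hp, hq]
    | mul_X p j hp => simp [hp]
  have hb : ∀ i, MvPolynomial.aeval (fun j => Ideal.Quotient.mk J (w₀ j)) (Φ i) = 0 := fun i => by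
    rw [hev]; exact Ideal.Quotient.eq_zero_iff_mem.mpr (h₀ i)
  have hu : IsUnit (MvPolynomial.aeval (fun j => Ideal.Quotient.mk J (w₀ j))
      (Groth.Agent.H14.jacDet Φ)) := by
    rw [hev]
    have : MvPolynomial.eval w₀ (Groth.Agent.H14.jacDet Φ) =
        (Matrix.of fun i j => MvPolynomial.eval w₀ (MvPolynomial.pderiv j (Φ i))).det := by
      rw [Groth.Agent.H14.jacDet, RingHom.map_det]; rfl
    rw [this]; exact hJ
  obtain ⟨σ, hσ⟩ := Groth.Agent.H3.exists_lift_of_etale_of_henselianRing J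
    (Groth.Agent.H14.JacRing Φ) (Groth.Agent.H14.jacLift Φ _ hb hu)
  refine ⟨fun j => σ (Groth.Agent.H14.jacX Φ j), fun i => ?_, fun j => ?_⟩
  · have := Groth.Agent.H14.aeval_jacRing_hom_eq_zero Φ σ i
    rwa [MvPolynomial.aeval_eq_eval] at this
  · have h1 : Ideal.Quotient.mk J (σ (Groth.Agent.H14.jacX Φ j)) =
        Groth.Agent.H14.jacLift Φ _ hb hu (Groth.Agent.H14.jacX Φ j) :=
      AlgHom.congr_fun hσ (Groth.Agent.H14.jacX Φ j)
    rw [Groth.Agent.H14.jacLift_jacX] at h1
    exact Ideal.Quotient.eq.mp h1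

end Groth.Agent.H15.FPA
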